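import Mathlib

/-! Finiteness of Frobenius. -/

universe u
set_option autoImplicit false
set_option linter.style.haveILetI false
set_option backward.isDefEq.respectTransparency false

noncomputable section

namespace Groth.Agent.FFinite

variable (p : ℕ) [Fact p.Prime]

theorem coeff_pow_eq {k : Type u} [Field k] [CharP k p] (g : PowerSeries k) (n : ℕ) :
    PowerSeries.coeff n (g ^ p) = if p ∣ n then PowerSeries.coeff (n / p) g ^ p else 0 := by
  have hp := (Fact.out : p.Prime)
  haveI : ExpChar k p := ExpChar.prime hp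
  have h : g ^ p = MvPowerSeries.map (frobenius k p) (MvPowerSeries.expand p hp.ne_zero g) :=
    (MvPowerSeries.map_frobenius_expand p hp.ne_zero).symm
  show MvPowerSeries.coeff (Finsupp.single () n) (g ^ p) = _
  rw [h, MvPowerSeries.coeff_map]
  split_ifs with hd
  · obtain ⟨m, rfl⟩ := hd
    rw [show Finsupp.single () (p * m) = p • Finsupp.single () m by rw [Finsupp.smul_single, smul_eq_mul],
      MvPowerSeries.coeff_expand_smul, Nat.mul_div_cancel_left _ hp.pos]
    rfl
  · rw [MvPowerSeries.coeff_expand_of_not_dvd p hp.ne_zero g (i := ()) (by simpa using hd), map_zero]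

theorem finite_iff {A B : Type u} [CommRing A] [CommRing B] (f : A →+* B) :
    f.Finite ↔ ∃ G : Finset B, ∀ b : B, ∃ c : B → A, b = ∑ g ∈ G, f (c g) * g := by
  classical
  letI := f.toAlgebra
  show Module.Finite A B ↔ _
  constructor
  · intro h
    obtain ⟨G, hG⟩ := h.fg_top
    refine ⟨G, fun s => ?_⟩
    obtain ⟨c, -, hc⟩ := Submodule.mem_span_finset.mp (hG.ge (trivial : s ∈ (⊤ : Submodule A B)))
    exact ⟨c, hc.symm.trans (Finset.sum_congr rfl fun g _ => rfl)⟩
  · rintro ⟨G, hG⟩
    refine ⟨⟨G, eq_top_iff.mpr fun b _ => ?_⟩⟩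
    obtain ⟨c, hc⟩ := hG b
    rw [hc]
    refine Submodule.sum_mem _ fun g hg => ?_
    show c g • g ∈ _
    exact Submodule.smul_mem _ _ (Submodule.subset_span hg)

theorem finite_of_gens {A B : Type u} [CommRing A] [CommRing B] (f : A →+* B) (gens : Set B)
    (hfin : gens.Finite) (hint : ∀ x ∈ gens, ∃ n : ℕ, 0 < n ∧ x ^ n ∈ f.range)
    (htop : ∀ T : Subring B, f.range ≤ T → gens ⊆ T → T = ⊤) : f.Finite := by
  letI := f.toAlgebra
  show Module.Finite A B
  have h : Algebra.adjoin A gens = ⊤ := by
    have := htop (Algebra.adjoin A gens).toSubring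
      (by rintro _ ⟨a, rfl⟩; exact (Algebra.adjoin A gens).algebraMap_mem a) Algebra.subset_adjoin
    exact eq_top_iff.mpr fun b _ => this.ge (trivial : b ∈ (⊤ : Subring B))
  have hi : ∀ x ∈ gens, IsIntegral A x := fun x hx => by
    obtain ⟨n, hn, a, ha⟩ := hint x hx
    exact IsIntegral.of_pow hn (ha ▸ isIntegral_algebraMap)
  have := fg_adjoin_of_finite hfin hi
  rw [h] at this
  exact ⟨this⟩

/-- Frobenius of `k⟦X⟧` is finite for perfect `k`. -/
theorem finite_powerSeries (k : Type u) [Field k] [CharP k p] [PerfectRing k p] [CharP (PowerSeries k) p] :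
    (frobenius (PowerSeries k) p).Finite := by
  classical
  have hp := (Fact.out : p.Prime)
  rw [finite_iff]
  let v : Fin p → PowerSeries k := fun i => PowerSeries.X ^ (i : ℕ)
  have hv : Function.Injective v := fun i j h => Fin.ext (by
    have := congrArg (PowerSeries.order) h
    simpa [v, PowerSeries.order_X_pow] using this)
  refine ⟨Finset.univ.image v, fun f => ?_⟩
  choose c hc using fun a : k => surjective_frobenius k p a
  let g : Fin p → PowerSeries k := fun i => PowerSeries.mk fun m => c (PowerSeries.coeff (p * m + i) f)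
  haveI : Nonempty (Fin p) := ⟨⟨0, hp.pos⟩⟩
  refine ⟨fun w => g (Function.invFun v w), ?_⟩
  rw [Finset.sum_image (fun _ _ _ _ h => hv h)]
  simp only [Function.leftInverse_invFun hv _]
  refine (PowerSeries.ext fun n => ?_).symm
  rw [map_sum]
  have hterm : ∀ i : Fin p, PowerSeries.coeff n (frobenius (PowerSeries k) p (g i) * v i) =
      if (i : ℕ) = n % p then PowerSeries.coeff n f else 0 := by
    intro i
    have hsm : frobenius (PowerSeries k) p (g i) * v i = g i ^ p * PowerSeries.X ^ (i : ℕ) := rfl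
    rw [hsm, PowerSeries.coeff_mul_X_pow']
    split_ifs with h1 h2 h2
    · rw [coeff_pow_eq p, if_pos (by rw [h2]; exact Nat.dvd_sub_mod n), PowerSeries.coeff_mk]
      refine (hc _).trans ?_
      congr 2
      rw [h2, Nat.mul_div_cancel' (Nat.dvd_sub_mod n), Nat.sub_add_cancel (Nat.mod_le _ _)]
    · rw [coeff_pow_eq p, if_neg]
      intro hd
      refine h2 ?_
      have : (i : ℕ) % p = n % p := (Nat.modEq_iff_dvd' h1).mpr hd
      rwa [Nat.mod_eq_of_lt i.2] at this
    · exact absurd (h2 ▸ Nat.mod_le _ _) h1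
    · rfl
  simp only [hterm]
  rw [Finset.sum_eq_single_of_mem (⟨n % p, Nat.mod_lt _ hp.pos⟩ : Fin p) (Finset.mem_univ _)
    fun b _ hb => if_neg fun h => hb (Fin.ext h), if_pos rfl]

/-- F-finiteness passes to algebras of finite type. -/
theorem finite_of_finiteType (S A : Type u) [CommRing S] [CommRing A] [CharP S p] [CharP A p]
    [Algebra S A] [Algebra.FiniteType S A] (hS : (frobenius S p).Finite) : (frobenius A p).Finite := by
  classical
  have hp := (Fact.out : p.Prime)
  obtain ⟨X, hX⟩ := (inferInstance : Algebra.FiniteType S A).out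
  obtain ⟨G, hG⟩ := (finite_iff _).mp hS
  let φ := algebraMap S A
  refine finite_of_gens _ (↑(G.image φ) ∪ ↑X) ((G.image φ).finite_toSet.union X.finite_toSet)
    (fun x _ => ⟨p, hp.pos, x, rfl⟩) fun T hF hgens => ?_
  have hS' : ∀ s : S, φ s ∈ T := by
    intro s
    obtain ⟨c, rfl⟩ := hG s
    rw [map_sum]
    refine Subring.sum_mem _ fun g hg => ?_
    rw [map_mul, RingHom.map_frobenius]
    exact T.mul_mem (hF ⟨_, rfl⟩) (hgens (Or.inl (Finset.mem_image_of_mem φ hg)))
  refine eq_top_iff.mpr fun a ha' => ?_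
  clear ha'
  have ha : a ∈ Algebra.adjoin S (↑X : Set A) := by rw [hX]; trivial
  induction ha using Algebra.adjoin_induction with
  | mem x hx => exact hgens (Or.inr hx)
  | algebraMap s => exact hS' s
  | add x y _ _ hx hy => exact T.add_mem hx hy
  | mul x y _ _ hx hy => exact T.mul_mem hx hy

/-- F-finiteness passes to localisations. -/
theorem finite_of_isLocalization (A L : Type u) [CommRing A] [CommRing L] [CharP A p] [CharP L p]
    [Algebra A L] (M : Submonoid A) [IsLocalization M L] (hA : (frobenius A p).Finite) :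
    (frobenius L p).Finite := by
  classical
  have hp := (Fact.out : p.Prime)
  obtain ⟨G, hG⟩ := (finite_iff _).mp hA
  let φ := algebraMap A L
  have key : ∀ x : L, ∃ c : A → L, x = ∑ g ∈ G, c g ^ p * φ g := by
    intro x
    obtain ⟨⟨a, m⟩, hm⟩ := IsLocalization.surj M x
    obtain ⟨u, hu⟩ := IsLocalization.map_units L m
    obtain ⟨c, hc⟩ := hG (a * (m : A) ^ (p - 1))
    refine ⟨fun g => φ (c g) * ↑u⁻¹, ?_⟩
    have hx : x = φ (a * (m : A) ^ (p - 1)) * (↑u⁻¹ : L) ^ p := by
      rw [map_mul, map_pow, ← hm, ← hu, mul_assoc x, ← pow_succ', Nat.sub_add_cancel hp.one_le, mul_assoc,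
        ← mul_pow, Units.mul_inv, one_pow, mul_one]
    simp only [frobenius_def] at hc
    rw [hx, hc, map_sum, Finset.sum_mul]
    exact Finset.sum_congr rfl fun g _ => by rw [map_mul, map_pow, mul_pow]; ring
  rw [finite_iff]
  refine ⟨G.image φ, fun x => ?_⟩
  obtain ⟨c, rfl⟩ := key x
  refine ⟨fun w => ∑ g ∈ G.filter (fun g => φ g = w), c g, ?_⟩
  rw [← Finset.sum_fiberwise_of_maps_to (g := φ) (t := G.image φ) fun g hg => Finset.mem_image_of_mem φ hg]
  refine Finset.sum_congr rfl fun w _ => ?_
  rw [map_sum, Finset.sum_mul]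
  exact Finset.sum_congr rfl fun g hg => by rw [frobenius_def, (Finset.mem_filter.mp hg).2]

end Groth.Agent.FFinite
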